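import Mathlib
import Cfsg.Agent.Lib.Helper48.FrakL.Core2
import Cfsg.Agent.Lib.Helper74.FrakL.Dih

/-!
# S2863, case glue G1: `|Y A / A| = 2` (dihedral case)
-/

set_option autoImplicit false

namespace Cfsg.Agent.Lib.Helper21.FrakL

open Subgroup Cfsg.Agent.Lib.Helper48.FrakL

universe u

/-- **Case glue G1 of S2863**: if the image of `Y` in `X / A` has order two, the conclusion
holds. -/
theorem case_two {X : Type u} [Group X] [Finite X] {Y A : Subgroup X} [hAn : A.Normal]
    (d : Data 2 Y A) (h2 : Nat.card ↥(Y.map (QuotientGroup.mk' A)) = 2) : Concl 2 Y A := by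
  obtain ⟨y0, hy0Y, hy0A⟩ := SetLike.not_le_iff_exists.mp d.not_le
  set π := QuotientGroup.mk' A with hπ
  have hker : ∀ x : X, π x = 1 ↔ x ∈ A := fun x => QuotientGroup.eq_one_iff x
  have hπeq : ∀ x x' : X, π x = π x' ↔ x⁻¹ * x' ∈ A := fun x x' => QuotientGroup.eq
  have hq0ne : π y0 ≠ 1 := fun h => hy0A ((hker y0).mp h)
  have hy0sq : y0 * y0 = 1 := by
    have := d.exp y0 hy0Y
    rwa [pow_two] at this
  have hq0sq : π y0 * π y0 = 1 := by rw [← map_mul, hy0sq, map_one]
  have hq0inv : (π y0)⁻¹ = π y0 := inv_eq_of_mul_eq_one_left hq0sq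
  -- the image of `Y` is `{1, q0}`
  have hY2 : ∀ y ∈ Y, π y = 1 ∨ π y = π y0 := by
    intro y hy
    obtain ⟨z, hz1, hz2⟩ := (Nat.card_eq_two_iff' (1 : ↥(Y.map π))).mp h2
    have e0 : (⟨π y0, Subgroup.mem_map_of_mem π hy0Y⟩ : ↥(Y.map π)) = z :=
      hz2 _ (fun h => hq0ne (congrArg Subtype.val h))
    by_cases hy1 : π y = 1
    · exact Or.inl hy1
    · right
      have e1 : (⟨π y, Subgroup.mem_map_of_mem π hy⟩ : ↥(Y.map π)) = z :=
        hz2 _ (fun h => hy1 (congrArg Subtype.val h))
      exact congrArg Subtype.val (e1.trans e0.symm)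
  have hYA : ∀ y ∈ Y, y ∉ A → π y = π y0 := by
    intro y hy hyA
    rcases hY2 y hy with h | h
    · exact absurd ((hker y).mp h) hyA
    · exact h
  obtain ⟨g1, hg1⟩ := d.exists_gen
  have hq1sq : π (g1 * y0 * g1⁻¹) * π (g1 * y0 * g1⁻¹) = 1 := by
    rw [← map_mul]
    have : g1 * y0 * g1⁻¹ * (g1 * y0 * g1⁻¹) = g1 * (y0 * y0) * g1⁻¹ := by group
    rw [this, hy0sq]
    simp
  have hgen : Subgroup.closure ({π y0, π (g1 * y0 * g1⁻¹)} : Set (X ⧸ A)) = ⊤ := by
    rw [eq_top_iff]
    have h1 : (⊤ : Subgroup X).map π = ⊤ :=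
      Subgroup.map_top_of_surjective π (QuotientGroup.mk'_surjective A)
    rw [← h1, ← hg1, Subgroup.map_sup]
    apply sup_le
    · rintro _ ⟨y, hy, rfl⟩
      rcases hY2 y hy with h | h
      · rw [h]
        exact one_mem _
      · rw [h]
        exact Subgroup.subset_closure (by simp)
    · rintro _ ⟨x, hx, rfl⟩
      obtain ⟨y, hy, rfl⟩ := mem_Yc.mp hx
      rcases hY2 y hy with h | h
      · have : π (g1 * y * g1⁻¹) = 1 := by
          rw [map_mul, map_mul, h, mul_one, ← map_mul, mul_inv_cancel, map_one]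
        rw [this]
        exact one_mem _
      · have : π (g1 * y * g1⁻¹) = π (g1 * y0 * g1⁻¹) := by
          rw [map_mul, map_mul, h, ← map_mul, ← map_mul]
        rw [this]
        exact Subgroup.subset_closure (by simp)
  -- no central involutions in `X / A`
  have hO : ∀ z : X ⧸ A, z * z = 1 → (∀ q : X ⧸ A, q * z = z * q) → z = 1 := by
    intro z hz hzc
    obtain ⟨x, rfl⟩ := QuotientGroup.mk'_surjective A z
    let N : Subgroup X :=
      { carrier := {n | π n = 1 ∨ π n = π x}
        one_mem' := Or.inl (map_one π)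
        mul_mem' := by
          intro a b ha hb
          simp only [Set.mem_setOf_eq] at ha hb ⊢
          rcases ha with ha | ha <;> rcases hb with hb | hb
          · left
            rw [map_mul, ha, hb, mul_one]
          · right
            rw [map_mul, ha, hb, one_mul]
          · right
            rw [map_mul, ha, hb, mul_one]
          · left
            rw [map_mul, ha, hb]
            exact hz
        inv_mem' := by
          intro a ha
          simp only [Set.mem_setOf_eq] at ha ⊢
          rcases ha with ha | ha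
          · left
            rw [map_inv, ha, inv_one]
          · right
            rw [map_inv, ha]
            exact inv_eq_of_mul_eq_one_left hz }
    have hN : N.Normal := ⟨by
      intro n hn g
      change π (g * n * g⁻¹) = 1 ∨ π (g * n * g⁻¹) = π x
      rcases hn with hn | hn
      · left
        rw [map_mul, map_mul, hn, mul_one, ← map_mul, mul_inv_cancel, map_one]
      · right
        rw [map_mul, map_mul, hn]
        have := hzc (π g)
        rw [this, mul_assoc, ← map_mul, mul_inv_cancel, map_one, mul_one]⟩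
    have hp : IsPGroup 2 ↥N := by
      intro n
      have hn2 : (n : X) * (n : X) ∈ A := by
        rw [← hker, map_mul]
        rcases n.2 with hn | hn
        · rw [hn, mul_one]
        · rw [hn]
          exact hz
      obtain ⟨j, hj⟩ := d.pgroup ⟨(n : X) * (n : X), hn2⟩
      refine ⟨j + 1, ?_⟩
      apply Subtype.ext
      have h3 : ((n : X) * (n : X)) ^ 2 ^ j = 1 := by
        have := congrArg Subtype.val hj
        simpa using this
      have h4 : ((n ^ 2 ^ (j + 1) : ↥N) : X) = (n : X) ^ 2 ^ (j + 1) := rfl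
      rw [h4, pow_succ', pow_mul, pow_two]
      exact h3
    have hxN : x ∈ N := Or.inr rfl
    exact (hker x).mpr (d.max N hN hp hxN)
  obtain ⟨hi, hii⟩ := Cfsg.Agent.Lib.Helper74.FrakL.dih_facts (π y0) (π (g1 * y0 * g1⁻¹))
    hq0sq hq1sq hgen hO
  -- elements of the normalizer of `Y` commute with `q0` modulo `A`
  have hnorm : ∀ n ∈ normalizer (Y : Set X), π n * π y0 = π y0 * π n := by
    intro n hn
    have h1 : n * y0 * n⁻¹ ∈ Y := (mem_normalizer_iff.mp hn y0).mp hy0Y
    have h2' : n * y0 * n⁻¹ ∉ A := by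
      intro h
      apply hy0A
      have := hAn.conj_mem _ h n⁻¹
      have e : n⁻¹ * (n * y0 * n⁻¹) * n⁻¹⁻¹ = y0 := by group
      rwa [e] at this
    have h3 := hYA _ h1 h2'
    rw [map_mul, map_mul, map_inv] at h3
    calc π n * π y0 = π n * π y0 * (π n)⁻¹ * π n := by group
      _ = π y0 * π n := by rw [h3]
  have hs : HSyl Y A := by
    intro g hg _ y hy
    have hc := hnorm _ (hg y hy)
    have hsq : π (g * y * g⁻¹) * π (g * y * g⁻¹) = 1 := by
      rw [← map_mul]
      have hy2 : y * y = 1 := by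
        have := d.exp y hy
        rwa [pow_two] at this
      have : g * y * g⁻¹ * (g * y * g⁻¹) = g * (y * y) * g⁻¹ := by group
      rw [this, hy2]
      simp
    rcases hii _ hsq hc with h | h
    · exact le_sup_right (α := Subgroup X) ((hker _).mp h)
    · have h' : y0⁻¹ * (g * y * g⁻¹) ∈ A := (hπeq _ _).mp h.symm
      have e : g * y * g⁻¹ = y0 * (y0⁻¹ * (g * y * g⁻¹)) := by group
      rw [e]
      exact mul_mem (le_sup_left (α := Subgroup X) hy0Y) (le_sup_right (α := Subgroup X) h')
  -- main argument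
  intro h hh
  apply concl_of_fpf
  intro v hv
  by_contra hv1
  have hqq : π h * π h ≠ 1 := by
    intro hq
    apply hh
    have : h ^ (2 ^ 1) ∈ A := by
      rw [pow_one, pow_two, ← hker, map_mul]
      exact hq
    exact d.isPElt_of_pow_mem this
  have hinv : π y0 * π h * (π y0)⁻¹ = (π h)⁻¹ := hi _ hqq
  have hinv' : π y0 * π h * π y0 = (π h)⁻¹ := by rw [← hinv, hq0inv]
  have hhN : h ∉ normalizer (Y : Set X) := by
    intro hn
    have hc := hnorm h hn
    apply hqq
    have : π h = (π h)⁻¹ := by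
      calc π h = π y0 * π h * (π y0)⁻¹ := by rw [← hc]; group
        _ = (π h)⁻¹ := hinv
    exact mul_eq_one_iff_eq_inv.mpr this
  have hcongr : (h * y0)⁻¹ * (y0 * h⁻¹) ∈ A := by
    rw [← hπeq, map_mul, map_mul, map_inv, ← hinv', ← mul_assoc, ← mul_assoc, hq0sq, one_mul]
  have e1 : rhoX Y A h⁻¹ v = v := by
    conv_lhs => rw [← hv]
    exact rhoX_inv_apply h v
  have hfix_y0v : rhoX Y A h (rhoX Y A y0 v) = rhoX Y A y0 v := by
    rw [← rhoX_mul_apply, d.rhoX_congr hcongr, rhoX_mul_apply, e1]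
  have hy0y0 : rhoX Y A y0 (rhoX Y A y0 v) = v := by
    rw [← rhoX_mul_apply, hy0sq, map_one]
    rfl
  obtain ⟨e, he1, hey0, heh⟩ :
      ∃ e : V Y A, e ≠ 1 ∧ rhoX Y A y0 e = e ∧ rhoX Y A h e = e := by
    by_cases hu : v * rhoX Y A y0 v = 1
    · refine ⟨v, hv1, ?_, hv⟩
      have hvv : v * v = 1 := by
        have := d.V_exp v
        rwa [pow_two] at this
      have h1 : rhoX Y A y0 v = v⁻¹ := eq_inv_of_mul_eq_one_right hu
      rw [h1]
      exact inv_eq_of_mul_eq_one_left hvv
    · refine ⟨v * rhoX Y A y0 v, hu, ?_, ?_⟩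
      · rw [map_mul, hy0y0]
        exact d.V_comm _ _
      · rw [map_mul, hv, hfix_y0v]
  have heY : ∀ y ∈ Y, rhoX Y A y e = e := by
    intro y hy
    rcases hY2 y hy with hy1 | hy1
    · exact d.rhoX_of_mem_A ((hker y).mp hy1) e
    · have : y0⁻¹ * y ∈ A := (hπeq _ _).mp hy1.symm
      rw [← d.rhoX_congr this e, hey0]
  have heVS : e ∈ VS Y A 1 := d.mem_VS_of_fix hg1 heY
  have heVS' : e ∈ VS Y A (h * 1) := by
    have := rhoX_mem_VS h heVS
    rwa [heh] at this
  have hnot : (1 : X)⁻¹ * (h * 1) ∉ normalizer (Y : Set X) := by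
    simpa using hhN
  exact he1 (d.VS_inf' hs hnot heVS heVS')

end Cfsg.Agent.Lib.Helper21.FrakL
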